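import Cfsg.Agent.Characters.Core
import Cfsg.Agent.Blocks.Local
import Cfsg.Agent.Blocks.Blau
import Cfsg.Agent.S0961
import Cfsg.Agent.S0914
set_option linter.all false

/-!
# The pairing over the `p`-regular elements: integrality and blocks of defect at most one
-/

set_option autoImplicit false

open Cfsg
open scoped ComplexConjugate

namespace Cfsg.Agent.H606.HeightBound

open Cfsg.Agent.Blocks.Local Cfsg.Agent.Characters Cfsg.Agent.Blocks.Blau

universe u

variable {G : Type u} [Group G] {p : ℕ} {M : Ideal AlgInt}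

/-- A rational number which is an algebraic integer is an integer. -/
theorem exists_int_of_isIntegral_ratCast {q : ℚ} (h : IsIntegral ℤ (q : ℂ)) : ∃ n : ℤ, (n : ℚ) = q := by
  have h1 : IsIntegral ℤ q := by
    have h2 : IsIntegral ℤ (algebraMap ℚ ℂ q) := by simpa using h
    exact (isIntegral_algebraMap_iff (algebraMap ℚ ℂ).injective).1 h2
  obtain ⟨n, hn⟩ := IsIntegrallyClosed.isIntegral_iff.1 h1
  exact ⟨n, by simpa using hn⟩

/-- If `(a : ℂ) / b` is an algebraic integer with integers `a`, `b`, then `b ∣ a`. -/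
theorem dvd_of_isIntegral_div {a b : ℤ} (hb : b ≠ 0) (h : IsIntegral ℤ ((a : ℂ) / (b : ℂ))) : b ∣ a := by
  have h1 : ((a : ℂ) / (b : ℂ)) = (((a : ℚ) / (b : ℚ) : ℚ) : ℂ) := by push_cast; rfl
  rw [h1] at h
  obtain ⟨n, hn⟩ := exists_int_of_isIntegral_ratCast h
  have hb' : (b : ℚ) ≠ 0 := by exact_mod_cast hb
  refine ⟨n, ?_⟩
  rw [eq_div_iff hb'] at hn
  have : (n * b : ℤ) = a := by exact_mod_cast hn
  rw [← this]; ring

/-- The numbers `p ^ a / |G|` times the pairing are integers. -/
theorem exists_pair_eq [Fintype G] [Fact p.Prime] (χ ψ : IrrCharacter G) :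
    ∃ t : ℤ, pair p (χ : G → ℂ) (ψ : G → ℂ) =
      ((Nat.card G / p ^ (Nat.card G).factorization p : ℕ) : ℂ) * (t : ℂ) := by
  classical
  have hp : p.Prime := Fact.out
  have hfin := Core.finite_irr (G := G)
  have := Fintype.ofFinite (IrrCharacter G)
  have h1 := Cfsg.Agent.S0961.result p χ
  obtain ⟨m, hm⟩ := Core.isGeneralizedCharacter_iff.1 h1
  have h2 := Core.classInner_sum_zsmul_irr m ψ
  rw [← hm] at h2
  have h3 : (fun x : G => if p ∣ orderOf x then 0 else
      ((p ^ (Nat.card G).factorization p : ℕ) : ℂ) * (χ : G → ℂ) x) =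
      ((p ^ (Nat.card G).factorization p : ℕ) : ℂ) • regPart p (χ : G → ℂ) := by
    funext x
    unfold regPart
    rw [Pi.smul_apply]
    split_ifs <;> simp
  rw [h3, Core.classInner_smul_left, classInner_regPart] at h2
  refine ⟨m ψ, ?_⟩
  rw [← h2]
  have hG : (Nat.card G : ℂ) ≠ 0 := Core.card_ne_zero_complex
  have hdvd : p ^ (Nat.card G).factorization p ∣ Nat.card G := Nat.ordProj_dvd _ _
  have h4 : (Nat.card G : ℂ) = ((p ^ (Nat.card G).factorization p : ℕ) : ℂ) *
      ((Nat.card G / p ^ (Nat.card G).factorization p : ℕ) : ℂ) := by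
    rw [← Nat.cast_mul, Nat.mul_div_cancel' hdvd]
  have h5 : ((Nat.card G / p ^ (Nat.card G).factorization p : ℕ) : ℂ) *
      (((p ^ (Nat.card G).factorization p : ℕ) : ℂ) *
        ((Nat.card G : ℂ)⁻¹ * pair p (χ : G → ℂ) (ψ : G → ℂ))) =
      (((p ^ (Nat.card G).factorization p : ℕ) : ℂ) *
      ((Nat.card G / p ^ (Nat.card G).factorization p : ℕ) : ℂ)) *
        ((Nat.card G : ℂ)⁻¹ * pair p (χ : G → ℂ) (ψ : G → ℂ)) := by ring
  rw [h5, ← h4, mul_inv_cancel_left₀ hG]

/-- The pairing divided by the degree is an algebraic integer. -/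
theorem isIntegral_pair_div [Fintype G] {χ ψ : G → ℂ} (hχ : IsIrrCharacter G χ)
    (hψ : IsCharacter G ψ) : IsIntegral ℤ (pair p χ ψ / χ 1) := by
  classical
  rw [pair_div_eq p (Core.isIrr_isClassFunction hχ) (Core.isCharacter_isClassFunction hψ)]
  refine IsIntegral.sum _ fun c _ => IsIntegral.mul ?_ (isIntegral_centralChar' hχ _)
  unfold regPart
  split
  · exact isIntegral_zero
  · exact isIntegral_conj (isIntegral_of_isCharacter hψ _)

/-- An irreducible character whose degree is divisible by `p ^ (a - 1)`: the pairing is an integral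
multiple of `p ^ (a - 1)` times the `p'`-part of the group order. -/
theorem exists_pair_eq_of_dvd [Fintype G] [Fact p.Prime] (χ ψ : IrrCharacter G) (k : ℕ)
    (hdiv : p ^ k ∣ charDegree (χ : G → ℂ)) :
    ∃ s : ℤ, pair p (χ : G → ℂ) (ψ : G → ℂ) =
      ((Nat.card G / p ^ (Nat.card G).factorization p : ℕ) : ℂ) * ((p : ℂ) ^ k * (s : ℂ)) := by
  have hp : p.Prime := Fact.out
  obtain ⟨t, ht⟩ := exists_pair_eq (p := p) χ ψ
  obtain ⟨n, hn, hn'⟩ := Core.isIrr_apply_one χ.2
  have hcd : charDegree (χ : G → ℂ) = n := charDegree_eq hn'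
  rw [hcd] at hdiv
  have h1 := isIntegral_pair_div (p := p) χ.2 (Core.isIrr_isCharacter ψ.2)
  rw [ht, hn'] at h1
  have h2 : ((Nat.card G / p ^ (Nat.card G).factorization p : ℕ) : ℂ) * (t : ℂ) / (n : ℂ) =
      ((((Nat.card G / p ^ (Nat.card G).factorization p : ℕ) : ℤ) * t : ℤ) : ℂ) / ((n : ℤ) : ℂ) := by
    push_cast; rfl
  rw [h2] at h1
  have h3 := dvd_of_isIntegral_div (by exact_mod_cast hn.ne') h1
  have h4 : ((p ^ k : ℕ) : ℤ) ∣ ((Nat.card G / p ^ (Nat.card G).factorization p : ℕ) : ℤ) * t :=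
    (Int.natCast_dvd_natCast.2 hdiv).trans h3
  have hcop : IsCoprime ((p ^ k : ℕ) : ℤ)
      ((Nat.card G / p ^ (Nat.card G).factorization p : ℕ) : ℤ) := by
    rw [Nat.isCoprime_iff_coprime]
    exact Nat.Coprime.pow_left _ (Nat.coprime_ordCompl hp Nat.card_pos.ne')
  obtain ⟨s, hs⟩ := hcop.dvd_of_dvd_mul_left h4
  refine ⟨s, ?_⟩
  rw [ht, hs]
  push_cast
  ring

/-- A character vanishing on the `p`-singular elements has degree divisible by the full power. -/
theorem pow_dvd_of_vanish [Finite G] [Fact p.Prime] (χ : IrrCharacter G)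
    (h : ∀ y : G, p ∣ orderOf y → (χ : G → ℂ) y = 0) :
    p ^ (Nat.card G).factorization p ∣ charDegree (χ : G → ℂ) := by
  obtain ⟨χ, n, ρ, hρ, rfl⟩ := χ
  obtain ⟨P⟩ : Nonempty (Sylow p G) := inferInstance
  have h1 := Cfsg.Agent.S0914.card_sylow_dvd_of_vanish p ρ h P
  rw [Sylow.card_eq_multiplicity] at h1
  have h2 : charDegree ρ.character = Module.finrank ℂ (Fin n → ℂ) := by
    apply charDegree_eq
    exact Representation.char_one ρ
  change _ ∣ charDegree ρ.character
  rw [h2]
  exact h1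

/-- **Blocks of defect at most one.** -/
theorem main [Finite G] [Fact p.Prime] (hM : IsPModular p M) (hpa : p ∣ Nat.card G)
    (B : Set (IrrCharacter G)) (hB : IsPBlock M B) (χ : IrrCharacter G) (hχ : χ ∈ B)
    (hdiv : p ^ ((Nat.card G).factorization p - 1) ∣ charDegree (χ : G → ℂ))
    (ψ : IrrCharacter G) (hψ : ψ ∈ B) :
    p ^ ((Nat.card G).factorization p - 1) ∣ charDegree (ψ : G → ℂ) := by
  classical
  have hMp := isPrime_of_isPModular hM
  have hp : p.Prime := Fact.out
  have := Fintype.ofFinite G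
  have hfin := Core.finite_irr (G := G)
  have := Fintype.ofFinite (IrrCharacter G)
  have hG0 : Nat.card G ≠ 0 := Nat.card_pos.ne'
  have ha : 1 ≤ (Nat.card G).factorization p :=
    (hp.dvd_iff_one_le_factorization hG0).1 hpa
  set a := (Nat.card G).factorization p with hadef
  set m := Nat.card G / p ^ a with hmdef
  have hpm : ¬ p ∣ m := Nat.not_dvd_ordCompl hp hG0
  have hm0 : m ≠ 0 := fun h => hpm (h ▸ dvd_zero p)
  have hGm : (Nat.card G : ℂ) = (p : ℂ) ^ (a - 1) * (p : ℂ) * (m : ℂ) := by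
    have h1 : Nat.card G = p ^ a * m := (Nat.mul_div_cancel' (Nat.ordProj_dvd _ _)).symm
    have h2 : p ^ a = p ^ (a - 1) * p := by
      rw [← pow_succ, Nat.sub_add_cancel ha]
    rw [h1, h2]; push_cast; ring
  have hpC : (p : ℂ) ≠ 0 := by exact_mod_cast hp.ne_zero
  have hmC : (m : ℂ) ≠ 0 := by exact_mod_cast hm0
  -- the integers `s`
  choose s hs using fun φ : IrrCharacter G => exists_pair_eq_of_dvd (p := p) χ φ (a - 1) hdiv
  have hs' : ∀ φ : IrrCharacter G, classInner (regPart p (χ : G → ℂ)) (φ : G → ℂ) =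
      (s φ : ℂ) / (p : ℂ) := by
    intro φ
    rw [classInner_regPart, hs φ, hGm, ← hadef, ← hmdef]
    have : (p : ℂ) ^ (a - 1) ≠ 0 := pow_ne_zero _ hpC
    field_simp
  have hcf := regPart_isClassFunction (p := p) (Core.isIrr_isClassFunction χ.2)
  have hexp := Core.classFunction_eq_sum hcf
  have hself : classInner (regPart p (χ : G → ℂ)) (regPart p (χ : G → ℂ)) =
      classInner (regPart p (χ : G → ℂ)) (χ : G → ℂ) := by
    unfold classInner
    congr 1
    refine Finset.sum_congr rfl fun x _ => ?_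
    by_cases h : p ∣ orderOf x
    · rw [regPart_of_dvd h, zero_mul, zero_mul]
    · rw [regPart_of_not_dvd h]
  have hpars := Core.classInner_eq_sum hcf hcf
  rw [hself, hs'] at hpars
  have hsum : ∑ φ : IrrCharacter G, (s φ) ^ 2 = (p : ℤ) * s χ := by
    have h1 : ∀ φ : IrrCharacter G, classInner (regPart p (χ : G → ℂ)) (φ : G → ℂ) *
        conj (classInner (regPart p (χ : G → ℂ)) (φ : G → ℂ)) = ((s φ : ℂ) ^ 2) / (p : ℂ) ^ 2 := by
      intro φ
      rw [hs' φ]
      simp only [map_div₀, map_natCast, map_intCast]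
      ring
    rw [Finset.sum_congr rfl fun φ _ => h1 φ, ← Finset.sum_div, div_eq_div_iff hpC
      (pow_ne_zero _ hpC)] at hpars
    have h2 : (∑ φ : IrrCharacter G, (s φ : ℂ) ^ 2) * (p : ℂ) = ((p : ℂ) * s χ) * (p : ℂ) := by
      rw [← hpars]; ring
    have h3 := mul_right_cancel₀ hpC h2
    exact_mod_cast h3
  have hsχ : (s χ) ^ 2 ≤ (p : ℤ) * s χ := by
    rw [← hsum]
    exact Finset.single_le_sum (f := fun φ => (s φ) ^ 2) (fun φ _ => sq_nonneg _)
      (Finset.mem_univ χ)
  by_cases hpow : p ^ a ∣ charDegree (χ : G → ℂ)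
  · -- defect zero
    obtain ⟨hd1, hd0, hdd⟩ := Cfsg.Agent.S0914.degree_spec χ
    have hnd : ¬ p ∣ Nat.card G / charDegree (χ : G → ℂ) := by
      intro hd
      obtain ⟨k, hk⟩ := hdd
      rw [hk, Nat.mul_div_cancel_left _ hd0] at hd
      have h6 : p ^ a * p ∣ Nat.card G := by rw [hk]; exact Nat.mul_dvd_mul hpow hd
      rw [← pow_succ] at h6
      exact Nat.pow_succ_factorization_not_dvd hG0 hp h6
    have h1 := (Cfsg.Agent.S0914.result p M hM χ).1 hnd
    have h2 : B = blockOf M (χ : G → ℂ) := by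
      ext φ
      constructor
      · intro hφ
        exact sameBlock_of_mem hM hB hχ hφ
      · intro hφ
        exact mem_of_sameBlock hM hB hχ hφ
    rw [h2, h1] at hψ
    rw [Set.mem_singleton_iff.1 hψ]
    exact hdiv
  · -- `s χ` is prime to `p`
    have hps : ¬ (p : ℤ) ∣ s χ := by
      rintro ⟨c, hc⟩
      have hp0 : (0 : ℤ) < p := by exact_mod_cast hp.pos
      have hc1 : c * c ≤ c := by
        rw [hc] at hsχ
        have h1 : ((p : ℤ) * p) * (c * c) ≤ ((p : ℤ) * p) * c := by nlinarith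
        exact le_of_mul_le_mul_left h1 (by positivity)
      have hc2 : c = 0 ∨ c = 1 := by
        have h1 : 0 ≤ c := by nlinarith [sq_nonneg c]
        have h2 : c ≤ 1 := by nlinarith
        omega
      rcases hc2 with h0 | h1
      · -- zero
        rw [hc, h0, mul_zero, mul_zero] at hsum
        have h1 : ∀ φ : IrrCharacter G, s φ = 0 := by
          intro φ
          have := (Finset.sum_eq_zero_iff_of_nonneg (fun φ _ => sq_nonneg (s φ))).1 hsum φ
            (Finset.mem_univ φ)
          exact pow_eq_zero_iff (two_ne_zero) |>.1 this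
        have h2 : regPart p (χ : G → ℂ) = 0 := by
          rw [hexp]
          refine Finset.sum_eq_zero fun φ _ => ?_
          rw [hs' φ, h1 φ]
          simp
        have h3 := congrFun h2 1
        rw [regPart_of_not_dvd (by rw [orderOf_one]; exact (hp.one_lt.ne') ∘ Nat.dvd_one.1)] at h3
        exact apply_one_ne_zero χ h3
      · -- everything is concentrated on `χ`
        have hc' : s χ = p := by rw [hc, h1, mul_one]
        have h2 : ∀ φ : IrrCharacter G, φ ≠ χ → s φ = 0 := by
          intro φ hφ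
          have h3 : ∑ φ ∈ Finset.univ.erase χ, (s φ) ^ 2 = 0 := by
            have h4 := Finset.add_sum_erase Finset.univ (fun φ => (s φ) ^ 2) (Finset.mem_univ χ)
            rw [hsum, hc'] at h4
            have h4' : (p : ℤ) ^ 2 + ∑ φ ∈ Finset.univ.erase χ, (s φ) ^ 2 = p * p := by
              rw [← h4]
            nlinarith
          have := (Finset.sum_eq_zero_iff_of_nonneg (fun φ _ => sq_nonneg (s φ))).1 h3 φ
            (Finset.mem_erase.2 ⟨hφ, Finset.mem_univ φ⟩)
          exact pow_eq_zero_iff (two_ne_zero) |>.1 this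
        have h3 : regPart p (χ : G → ℂ) = (χ : G → ℂ) := by
          rw [hexp, Finset.sum_eq_single χ]
          · rw [hs' χ, hc', Int.cast_natCast, div_self hpC, one_smul]
          · intro φ _ hφ
            rw [hs' φ, h2 φ hφ]
            simp
          · intro h; exact absurd (Finset.mem_univ _) h
        apply hpow
        apply pow_dvd_of_vanish
        intro y hy
        rw [← h3, regPart_of_dvd hy]
    by_contra hcon
    -- compare `pair ψ χ / ψ 1` with `pair χ χ / χ 1`
    have hcmp := pair_div_sub_pair_div hM ψ.2 χ.2 (Core.isIrr_isCharacter χ.2)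
      (sameBlock_of_mem hM hB hψ hχ)
    obtain ⟨n, hn, hn'⟩ := Core.isIrr_apply_one χ.2
    obtain ⟨l, hl, hl'⟩ := Core.isIrr_apply_one ψ.2
    rw [charDegree_eq hn'] at hdiv hpow
    rw [charDegree_eq hl'] at hcon
    have hA : ¬ MemLocalIdeal M (pair p (χ : G → ℂ) (χ : G → ℂ) / (χ : G → ℂ) 1) := by
      intro hcon2
      have h1 : pair p (χ : G → ℂ) (χ : G → ℂ) / (χ : G → ℂ) 1 * ((n / p ^ (a - 1) : ℕ) : ℂ) =
          (((m : ℤ) * s χ : ℤ) : ℂ) := by
        rw [hs χ, hn']
        have h2 : (n : ℂ) = (p : ℂ) ^ (a - 1) * ((n / p ^ (a - 1) : ℕ) : ℂ) := by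
          rw [← Nat.cast_pow, ← Nat.cast_mul, Nat.mul_div_cancel' hdiv]
        have h3 : (n : ℂ) ≠ 0 := by exact_mod_cast hn.ne'
        rw [← hmdef, div_mul_eq_mul_div, div_eq_iff h3]
        conv_rhs => rw [h2]
        push_cast
        ring
      have h2 := memLocalIdeal_mul_right hcon2
        (memLocalRing_natCast (M := M) (n / p ^ (a - 1)))
      rw [h1, memLocalIdeal_intCast_iff hM] at h2
      rcases (Nat.prime_iff_prime_int.1 hp).dvd_or_dvd h2 with h3 | h3
      · exact hpm (Int.natCast_dvd_natCast.1 h3)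
      · exact hps h3
    apply hA
    rw [← memLocalIdeal_iff_of_sub hcmp]
    rw [pair_comm p (Core.isCharacter_apply_inv (Core.isIrr_isCharacter ψ.2))
      (Core.isCharacter_apply_inv (Core.isIrr_isCharacter χ.2)), hs ψ, hl']
    have h1 : ((Nat.card G / p ^ (Nat.card G).factorization p : ℕ) : ℂ) *
        ((p : ℂ) ^ (a - 1) * (s ψ : ℂ)) / (l : ℂ) =
        ((m : ℂ) * (s ψ : ℂ)) * (((p ^ (a - 1) : ℕ) : ℂ) / (l : ℂ)) := by
      rw [← hadef, ← hmdef]; push_cast; ring
    rw [h1]
    refine memLocalIdeal_mul_left (memLocalRing_mul (memLocalRing_natCast _)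
      (memLocalRing_intCast _)) (memLocalIdeal_natCast_div hM hl.ne' ?_)
    rw [hp.factorization_pow, Finsupp.single_eq_same]
    by_contra hlt
    apply hcon
    exact (hp.pow_dvd_iff_le_factorization hl.ne').2 (not_lt.1 hlt)

end Cfsg.Agent.H606.HeightBound
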