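import Cfsg.Agent.H606.HeightBound
import Cfsg.Agent.Blocks.ExistsModular
import Cfsg.Agent.Blocks.Orthogonality
import Cfsg.Agent.S0907
import Cfsg.Agent.S0144
import Cfsg.Agent.S0154
set_option linter.all false

/-!
# Characters of prime power degree in groups of order `p ^ a q ^ b r ^ c`, `a ≤ 2`
-/

set_option autoImplicit false

open Cfsg
open scoped ComplexConjugate

namespace Cfsg.Agent.H606.ThreePrimes

open Cfsg.Agent.Blocks.Local Cfsg.Agent.Characters Cfsg.Agent.Blocks.Blau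

universe u

variable {G : Type u} [Group G]

/-- A non-trivial solvable group has a nonprincipal linear character. -/
theorem exists_linear [Finite G] [Nontrivial G] (h : Group.IsSolvable G) :
    ∃ χ : IrrCharacter G, (χ : G → ℂ) ≠ (fun _ => 1) ∧ charDegree (χ : G → ℂ) = 1 := by
  classical
  have hlt := Group.IsSolvable.commutator_lt_top_of_nontrivial G
  have h1 : (commutator G).index ≠ 1 := fun h => hlt.ne (Subgroup.index_eq_one.1 h)
  have h2 : (commutator G).index ≠ 0 := Subgroup.index_ne_zero_of_finite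
  have h3 := Cfsg.Agent.S0154.result (G := G)
  have hfin : Finite (IrrCharacter G) := Core.finite_irr
  have h4 : 1 < Nat.card {χ : IrrCharacter G // (χ : G → ℂ) 1 = 1} := by
    rw [h3]; omega
  have : Nontrivial {χ : IrrCharacter G // (χ : G → ℂ) 1 = 1} :=
    Finite.one_lt_card_iff_nontrivial.1 h4
  let χ₀ : {χ : IrrCharacter G // (χ : G → ℂ) 1 = 1} := ⟨⟨_, Core.isIrr_one⟩, rfl⟩
  obtain ⟨χ, hχ⟩ := exists_ne χ₀
  refine ⟨χ.1, ?_, ?_⟩
  · intro h5
    apply hχ
    apply Subtype.ext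
    apply Subtype.ext
    exact h5
  · apply charDegree_eq
    rw [χ.2, Nat.cast_one]

/-- In the principal block for a prime with `p ^ 3 ∤ |G|`, the degrees are prime to `p`. -/
theorem not_dvd_degree [Finite G] {p : ℕ} [Fact p.Prime] {M : Ideal AlgInt}
    (hM : IsPModular p M) (ha : (Nat.card G).factorization p ≤ 2) (hpa : p ∣ Nat.card G)
    {χ : IrrCharacter G} (hχ : χ ∈ principalBlock M G) : ¬ p ∣ charDegree (χ : G → ℂ) := by
  have hMp := isPrime_of_isPModular hM
  have hp : p.Prime := Fact.out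
  let χ₀ : IrrCharacter G := ⟨_, Core.isIrr_one⟩
  have hB : IsPBlock M (principalBlock M G) := ⟨χ₀, rfl⟩
  have hχ₀ : χ₀ ∈ principalBlock M G := fun g => by
    change MemLocalIdeal M (centralChar (fun _ : G => (1 : ℂ)) g -
      centralChar (fun _ : G => (1 : ℂ)) g)
    rw [sub_self]; exact memLocalIdeal_zero
  have hd0 : charDegree (χ₀ : G → ℂ) = 1 := by
    apply charDegree_eq
    change (1 : ℂ) = _
    rw [Nat.cast_one]
  have hG0 : Nat.card G ≠ 0 := Nat.card_pos.ne'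
  have ha1 : 1 ≤ (Nat.card G).factorization p :=
    (hp.dvd_iff_one_le_factorization hG0).1 hpa
  intro hdvd
  have hpd : ¬ p ∣ charDegree (χ₀ : G → ℂ) := by
    rw [hd0]; exact (hp.one_lt.ne') ∘ Nat.dvd_one.1
  by_cases h2 : (Nat.card G).factorization p = 2
  · apply hpd
    have h1 := HeightBound.main hM hpa _ hB χ hχ (by rw [h2]; simpa using hdvd) χ₀ hχ₀
    rw [h2] at h1
    simpa using h1
  · have h1 : (Nat.card G).factorization p = 1 := by omega
    -- defect zero
    obtain ⟨hd1, hd0', hdd⟩ := Cfsg.Agent.S0914.degree_spec χ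
    have hnd : ¬ p ∣ Nat.card G / charDegree (χ : G → ℂ) := by
      intro hd
      obtain ⟨k, hk⟩ := hdd
      rw [hk, Nat.mul_div_cancel_left _ hd0'] at hd
      have h6 : p ^ ((Nat.card G).factorization p + 1) ∣ Nat.card G := by
        rw [h1, hk, pow_succ, pow_one]; exact Nat.mul_dvd_mul hdvd hd
      exact Nat.pow_succ_factorization_not_dvd hG0 hp h6
    have h2 := (Cfsg.Agent.S0914.result p M hM χ).1 hnd
    have h3 : χ₀ ∈ blockOf M (χ : G → ℂ) := sameBlock_of_mem hM hB hχ hχ₀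
    rw [h2, Set.mem_singleton_iff] at h3
    rw [h3] at hpd
    exact hpd hdvd

/-- The main step: a nonprincipal irreducible character of `q`-power degree. -/
theorem exists_pow [Finite G] {p q r a b c : ℕ} (hp : p.Prime) (hq : q.Prime) (hr : r.Prime)
    (hpq : p ≠ q) (hpr : p ≠ r) (ha : a ≤ 2) (ha0 : a ≠ 0)
    (hG : Nat.card G = p ^ a * q ^ b * r ^ c) :
    ∃ χ : IrrCharacter G, (χ : G → ℂ) ≠ (fun _ => 1) ∧ ∃ k : ℕ, charDegree (χ : G → ℂ) = q ^ k := by
  classical
  have hpf : Fact p.Prime := ⟨hp⟩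
  have := Fintype.ofFinite G
  have hfin := Core.finite_irr (G := G)
  have := Fintype.ofFinite (IrrCharacter G)
  obtain ⟨M, hM⟩ := Cfsg.Agent.Blocks.ExistsModular.exists_isPModular hp
  have hMp := isPrime_of_isPModular hM
  have hpa : p ∣ Nat.card G := by
    rw [hG, mul_assoc]
    exact Dvd.dvd.mul_right (dvd_pow_self p ha0) _
  have hqp : (q ^ b * r ^ c).factorization p = 0 := by
    apply Nat.factorization_eq_zero_of_not_dvd
    intro h
    rcases (hp.dvd_mul).1 h with h | h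
    · exact hpq ((Nat.prime_dvd_prime_iff_eq hp hq).1 (hp.dvd_of_dvd_pow h))
    · exact hpr ((Nat.prime_dvd_prime_iff_eq hp hr).1 (hp.dvd_of_dvd_pow h))
  have haG : (Nat.card G).factorization p ≤ 2 := by
    rw [hG, mul_assoc, Nat.factorization_mul (pow_ne_zero _ hp.ne_zero)
      (mul_ne_zero (pow_ne_zero _ hq.ne_zero) (pow_ne_zero _ hr.ne_zero)), Finsupp.add_apply, hqp,
      hp.factorization_pow, Finsupp.single_eq_same]
    omega
  obtain ⟨y, hy⟩ := exists_prime_orderOf_dvd_card' p hpa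
  let χ₀ : IrrCharacter G := ⟨_, Core.isIrr_one⟩
  have hB : IsPBlock M (principalBlock M G) := ⟨χ₀, rfl⟩
  have hχ₀ : χ₀ ∈ principalBlock M G := fun g => by
    change MemLocalIdeal M (centralChar (fun _ : G => (1 : ℂ)) g -
      centralChar (fun _ : G => (1 : ℂ)) g)
    rw [sub_self]; exact memLocalIdeal_zero
  have horth := Cfsg.Agent.S0907.result p M hM _ hB 1 y
    (by rw [orderOf_one]; exact (hp.one_lt.ne') ∘ Nat.dvd_one.1) (by rw [hy])
  rw [Cfsg.Agent.Blocks.Orthogonality.finsum_mem_eq_sum_filter] at horth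
  by_contra hcon
  push Not at hcon
  -- every nonprincipal member of the block has degree divisible by `r`
  have hrd : ∀ χ ∈ principalBlock M G, χ ≠ χ₀ → r ∣ charDegree (χ : G → ℂ) := by
    intro χ hχ hne
    have h1 : (χ : G → ℂ) ≠ (fun _ => 1) := fun h => hne (Subtype.ext h)
    have h2 := hcon χ h1
    have h3 := not_dvd_degree hM haG hpa hχ
    obtain ⟨hd1, hd0, hdd⟩ := Cfsg.Agent.S0914.degree_spec χ
    rw [hG, mul_assoc] at hdd
    have h4 : charDegree (χ : G → ℂ) ∣ q ^ b * r ^ c :=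
      Nat.Coprime.dvd_of_dvd_mul_left
        (Nat.Coprime.pow_right _ ((Nat.Prime.coprime_iff_not_dvd hp).2 h3).symm) hdd
    by_contra hnr
    have h5 : charDegree (χ : G → ℂ) ∣ q ^ b :=
      Nat.Coprime.dvd_of_dvd_mul_right
        (Nat.Coprime.pow_right _ ((Nat.Prime.coprime_iff_not_dvd hr).2 hnr).symm) h4
    obtain ⟨k, -, hk⟩ := (Nat.dvd_prime_pow hq).1 h5
    exact h2 k hk
  have hmem : χ₀ ∈ Finset.univ.filter (fun χ : IrrCharacter G => χ ∈ principalBlock M G) :=
    Finset.mem_filter.2 ⟨Finset.mem_univ _, hχ₀⟩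
  rw [← Finset.add_sum_erase _ _ hmem] at horth
  have h1 : (χ₀ : G → ℂ) 1 * conj ((χ₀ : G → ℂ) y) = 1 := by
    change (1 : ℂ) * conj (1 : ℂ) = 1
    simp
  rw [h1] at horth
  have h2 : ∑ χ ∈ (Finset.univ.filter
      (fun χ : IrrCharacter G => χ ∈ principalBlock M G)).erase χ₀,
      (χ : G → ℂ) 1 * conj ((χ : G → ℂ) y) = (r : ℂ) * ∑ χ ∈ (Finset.univ.filter
      (fun χ : IrrCharacter G => χ ∈ principalBlock M G)).erase χ₀,
      ((charDegree (χ : G → ℂ) / r : ℕ) : ℂ) * conj ((χ : G → ℂ) y) := by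
    rw [Finset.mul_sum]
    refine Finset.sum_congr rfl fun χ hχ => ?_
    rw [Finset.mem_erase, Finset.mem_filter] at hχ
    obtain ⟨hd1, hd0, hdd⟩ := Cfsg.Agent.S0914.degree_spec χ
    rw [hd1, ← mul_assoc, ← Nat.cast_mul, Nat.mul_div_cancel' (hrd χ hχ.2.2 hχ.1)]
  rw [h2] at horth
  have hrC : (r : ℂ) ≠ 0 := by exact_mod_cast hr.ne_zero
  have h3 : (r : ℂ)⁻¹ = - ∑ χ ∈ (Finset.univ.filter
      (fun χ : IrrCharacter G => χ ∈ principalBlock M G)).erase χ₀,
      ((charDegree (χ : G → ℂ) / r : ℕ) : ℂ) * conj ((χ : G → ℂ) y) := by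
    rw [inv_eq_iff_eq_inv, eq_comm, inv_eq_iff_eq_inv] at *
    field_simp
    linear_combination horth
  apply Cfsg.Agent.Blocks.ExistsModular.not_isIntegral_inv hr
  rw [h3]
  refine IsIntegral.neg (IsIntegral.sum _ fun χ _ => IsIntegral.mul ?_ ?_)
  · have h5 := isIntegral_algebraMap (R := ℤ) (A := ℂ) (x := ((charDegree (χ : G → ℂ) / r : ℕ) : ℤ))
    rwa [map_natCast] at h5
  · exact isIntegral_conj (isIntegral_of_isCharacter (Core.isIrr_isCharacter χ.2) y)

theorem main [Finite G] [Nontrivial G] {p q r a b c : ℕ} (hp : p.Prime) (hq : q.Prime)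
    (hr : r.Prime) (hpq : p ≠ q) (hpr : p ≠ r) (ha : a ≤ 2)
    (hG : Nat.card G = p ^ a * q ^ b * r ^ c) :
    (∃ χ : IrrCharacter G, (χ : G → ℂ) ≠ (fun _ => 1) ∧
        ∃ k : ℕ, charDegree (χ : G → ℂ) = q ^ k) ∧
      ∃ χ : IrrCharacter G, (χ : G → ℂ) ≠ (fun _ => 1) ∧
        ∃ k : ℕ, charDegree (χ : G → ℂ) = r ^ k := by
  rcases Nat.eq_zero_or_pos a with h0 | h0
  · subst h0
    rw [pow_zero, one_mul] at hG
    obtain ⟨χ, hχ, hd⟩ := exists_linear (Cfsg.Agent.S0144.result q r b c hq hr hG)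
    exact ⟨⟨χ, hχ, 0, by rw [hd, pow_zero]⟩, ⟨χ, hχ, 0, by rw [hd, pow_zero]⟩⟩
  · refine ⟨exists_pow hp hq hr hpq hpr ha h0.ne' hG, ?_⟩
    exact exists_pow hp hr hq hpr hpq ha h0.ne' (b := c) (c := b) (by rw [hG]; ring)

end Cfsg.Agent.H606.ThreePrimes
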