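import Cfsg.Agent.SmallSimple.ThetaCount
import Cfsg.Agent.MTwelve.SmallDegree
import Cfsg.Agent.Characters.Ito
import Cfsg.Agent.Blocks.ExistsModular
import Cfsg.Agent.H662.IrrTransport
set_option linter.all false

/-!
# Groups whose order is divisible by `p` exactly once: characters of degree prime to `p`

* `card_nonzeroOn`: if a Sylow `p`-subgroup `P` has order `p` and `H` is a complement of `P` in
  `N_G(P)` then the number of irreducible characters of `G` not vanishing on the `p`-singular elements is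
  the number of irreducible characters of `H` plus the number of `p`-singular classes of `G`;
* `mem_nonzeroOn_iff`: those are the characters of degree prime to `p`;
* `card_singular_eq`: `G` and `N_G(P)` have the same number of `p`-singular classes;
* `main`: the number of irreducible characters of degree prime to `p` is the class number of `N_G(P)`.
-/

set_option autoImplicit false

open Cfsg
open scoped ComplexConjugate

namespace Cfsg.Agent.H606.McKayOnce

open Subgroup
open Cfsg.Agent.Characters.Core Cfsg.Agent.Characters.Linear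
open Cfsg.Agent.SmallSimple.PrimeDual Cfsg.Agent.SmallSimple.ThetaSetup
open Cfsg.Agent.SmallSimple.ThetaOrtho Cfsg.Agent.SmallSimple.ThetaGroup
open Cfsg.Agent.SmallSimple.ThetaCount
open Cfsg.Agent.SmallSimple.SingularCount Cfsg.Agent.Blocks.PPart
open Cfsg.Agent

universe u

variable {G : Type u} [Group G] [Finite G] {p : ℕ} [Fact p.Prime] {P : Sylow p G}

/-- The number of characters not vanishing on the `p`-singular elements. -/
theorem card_nonzeroOn (hP : Nat.card P = p) {H : Subgroup G} (hH : IsCompl' P H) :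
    Nat.card (nonzeroOn p G) = Nat.card (IrrCharacter H) +
      Nat.card {c : ConjClasses G // ∃ g, ConjClasses.mk g = c ∧ p ∣ orderOf g} := by
  classical
  have hp : p.Prime := Fact.out
  obtain ⟨M, hM⟩ := Cfsg.Agent.Blocks.ExistsModular.exists_isPModular hp
  have hMp : M.IsPrime := Blocks.Local.isPrime_of_isPModular hM
  obtain ⟨K, hK⟩ := exists_isComp P hP
  have : Finite (IrrCharacter G) := finite_irr
  have := Fintype.ofFinite (IrrCharacter G)
  have : Finite (IrrCharacter K) := finite_irr
  have := Fintype.ofFinite (IrrCharacter K)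
  let st := setoidK hK
  let κ := Quotient st
  have := Fintype.ofFinite κ
  let rep : κ → IrrCharacter K := fun q => q.out
  have hrep : ∀ q, (Quotient.mk st (rep q) : κ) = q := fun q => Quotient.out_eq q
  have hinj : Function.Injective rep := fun q q' h => by rw [← hrep q, ← hrep q', h]
  choose s hs1 hs2 hs3 using fun q : κ => exists_orbit_reps hp hP (stabAct hK (rep q : K → ℂ))
  have hA : ∑ q : κ, Nat.card (stabAct hK (rep q : K → ℂ)) ≤ Nat.card (IrrCharacter H) := by
    have h1 := sum_le_card_irr hK hP hH (Finset.univ.image rep) (by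
      intro θ hθ θ' hθ' h
      obtain ⟨q, -, rfl⟩ := Finset.mem_image.1 hθ
      obtain ⟨q', -, rfl⟩ := Finset.mem_image.1 hθ'
      have h1 : (Quotient.mk st (rep q) : κ) = Quotient.mk st (rep q') := Quotient.sound h
      rw [hrep, hrep] at h1
      rw [h1])
    rwa [Finset.sum_image fun _ _ _ _ h => hinj h] at h1
  let J : Finset (IrrCharacter K × P) := Finset.univ.biUnion fun q : κ =>
    (s q).image fun u => (rep q, u)
  have hJmem : ∀ j, j ∈ J ↔ ∃ q : κ, ∃ u ∈ s q, (rep q, u) = j := by
    intro j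
    simp [J]
  have hJcard : J.card = ∑ q : κ, (s q).card := by
    rw [Finset.card_biUnion]
    · refine Finset.sum_congr rfl fun q _ => ?_
      exact Finset.card_image_of_injective _ fun u v h => (Prod.mk.inj h).2
    · intro q _ q' _ hne
      show Disjoint _ _
      rw [Finset.disjoint_left]
      intro j hj hj'
      obtain ⟨u, -, rfl⟩ := Finset.mem_image.1 hj
      obtain ⟨v, -, h⟩ := Finset.mem_image.1 hj'
      exact hne (hinj (Prod.mk.inj h).1).symm
  have hB : ∑ q : κ, (s q).card ≤
      Nat.card {c : ConjClasses G // ∃ g, ConjClasses.mk g = c ∧ p ∣ orderOf g} := by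
    rw [← hJcard]
    apply card_le_classes hK hP J
    · intro j hj
      obtain ⟨q, u, hu, rfl⟩ := (hJmem j).1 hj
      exact hs2 q u hu
    · intro i hi j hj hij g hg
      obtain ⟨q, u, hu, rfl⟩ := (hJmem i).1 hi
      obtain ⟨q', v, hv, rfl⟩ := (hJmem j).1 hj
      apply hij
      have hv1 : (v : G) ≠ 1 := fun h => hs2 q' v hv (Subtype.ext h)
      have hgN := mem_normalizer_of_conj hP u.2 v.2 hv1 hg.1
      have h1 : (Quotient.mk st (rep q') : κ) = Quotient.mk st (rep q) :=
        Quotient.sound ⟨g, hgN, hg.2⟩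
      rw [hrep, hrep] at h1
      subst h1
      have h2 := hs3 q' u hu v hv ⟨cP hgN, ⟨g, hgN, fun x => coe_cP hgN x, hg.2⟩,
        Subtype.ext hg.1⟩
      rw [h2]
  have hC := lower hM P hP H hH.le hH.disj hH.gen hH.not_dvd
  let f : κ → Finset (IrrCharacter G) := fun q => (Set.toFinite (Over P (rep q : K → ℂ))).toFinset
  have hfcard : ∀ q, (f q).card = Nat.card (Over P (rep q : K → ℂ)) := fun q =>
    (Nat.card_eq_card_finite_toFinset _).symm
  have hfmem : ∀ q χ, χ ∈ f q ↔ χ ∈ Over P (rep q : K → ℂ) := fun q χ => by simp [f]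
  have hle : ∀ q, (f q).card ≤ Nat.card (stabAct hK (rep q : K → ℂ)) + (s q).card := by
    intro q
    rw [hfcard]
    exact card_Over_le hK hP (rep q).2 rfl (hs1 q)
  have hU : Nat.card (nonzeroOn p G) ≤ (Finset.univ.biUnion f).card := by
    rw [Nat.card_eq_card_finite_toFinset (Set.toFinite _)]
    apply Finset.card_le_card
    intro χ hχ
    have hχ' : χ ∈ nonzeroOn p G := by simpa using hχ
    obtain ⟨θ, hθ⟩ := exists_mem_Over hK hP hχ'
    rw [Finset.mem_biUnion]
    refine ⟨Quotient.mk st θ, Finset.mem_univ _, ?_⟩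
    rw [hfmem]
    have h1 : (Quotient.mk st θ : κ) = Quotient.mk st (rep (Quotient.mk st θ)) := (hrep _).symm
    obtain ⟨n, hn, h2⟩ := Quotient.exact h1
    rw [← h2, Over_tw hK hn]
    exact hθ
  have hbi : (Finset.univ.biUnion f).card ≤ ∑ q : κ, (f q).card := Finset.card_biUnion_le
  have hsum : ∑ q : κ, (f q).card ≤
      ∑ q : κ, (Nat.card (stabAct hK (rep q : K → ℂ)) + (s q).card) :=
    Finset.sum_le_sum fun q _ => hle q
  rw [Finset.sum_add_distrib] at hsum
  omega

omit [Finite G] in
theorem one_eq_charDegree (χ : IrrCharacter G) :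
    (χ : G → ℂ) 1 = (charDegree (χ : G → ℂ) : ℂ) := by
  obtain ⟨n, ρ, hρ, h⟩ := χ.2
  have h1 : (χ : G → ℂ) 1 = ((Module.finrank ℂ (Fin n → ℂ) : ℕ) : ℂ) := by
    rw [← h]; exact Representation.char_one ρ
  rw [Blocks.Basic.charDegree_of_eq h1, h1]

/-- The characters not vanishing on the `p`-singular elements have degree prime to `p`. -/
theorem mem_nonzeroOn_iff (hP : Nat.card P = p) (χ : IrrCharacter G) :
    χ ∈ nonzeroOn p G ↔ ¬ p ∣ charDegree (χ : G → ℂ) := by
  have hp : p.Prime := Fact.out
  have hdeg := one_eq_charDegree χ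
  constructor
  · rintro ⟨g, hg, hne⟩ ⟨m, hm⟩
    apply hne
    obtain ⟨z, y, hzy, hcomm, ⟨k, hk⟩, hy⟩ := exists_isPPart p g
    have hz1 : z ≠ 1 := by
      rintro rfl
      rw [one_mul] at hzy
      rw [hzy] at hy
      exact hy hg
    have hzP : IsPGroup p (zpowers z) := IsPGroup.of_card (n := k) (by rw [Nat.card_zpowers, hk])
    obtain ⟨Q, hQ⟩ := hzP.exists_le_sylow
    have hQp : Nat.card Q = p := by
      have h1 : Nat.card Q = Nat.card P := by
        rw [Q.card_eq_multiplicity, P.card_eq_multiplicity]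
      rw [h1, hP]
    rw [← hzy]
    exact MTwelve.SmallDegree.apply_mul_eq_zero Q hQp χ.2 (m := m)
      (by rw [hdeg, hm]; push_cast; ring) (hQ (mem_zpowers z)) hz1 hcomm.eq hy
  · intro hnd
    by_contra hcon
    apply hnd
    have h0 : ∀ x ∈ (P : Subgroup G), x ≠ 1 → (χ : G → ℂ) x = 0 := by
      intro x hx hx1
      by_contra h
      exact hcon ⟨x, by rw [Blocks.CyclicOrtho.orderOf_eq P hP hx hx1], h⟩
    obtain ⟨m, hm⟩ := exists_degree_eq (P : Subgroup G) (isIrr_isCharacter χ.2) h0
    have h1 : (P : Subgroup G) = P := rfl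
    have h2 : Nat.card (P : Subgroup G) = p := hP
    rw [hdeg, h2] at hm
    exact ⟨m, by
      have h3 : ((charDegree (χ : G → ℂ) : ℕ) : ℂ) = ((p * m : ℕ) : ℂ) := by
        rw [hm]; push_cast; ring
      exact_mod_cast h3⟩

/-- `G` and `N_G(P)` have the same number of `p`-singular classes. -/
theorem card_singular_eq (hP : Nat.card P = p) :
    Nat.card {c : ConjClasses (normalizer ((P : Subgroup G) : Set G)) //
      ∃ g, ConjClasses.mk g = c ∧ p ∣ orderOf g} =
    Nat.card {c : ConjClasses G // ∃ g, ConjClasses.mk g = c ∧ p ∣ orderOf g} := by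
  classical
  have hp : p.Prime := Fact.out
  set N := normalizer ((P : Subgroup G) : Set G) with hN
  -- the `p`-part of a `p`-singular element of `N` is a nontrivial element of `P`
  have hpart : ∀ x : N, p ∣ orderOf x → ∃ u : G, u ∈ (P : Subgroup G) ∧ u ≠ 1 ∧
      IsPPart p (x : G) u := by
    intro x hx
    obtain ⟨z, hz⟩ := exists_isPPart p x
    obtain ⟨y, hzy, hcomm, ⟨k, hk⟩, hy⟩ := id hz
    have hz1 : z ≠ 1 := by
      rintro rfl
      rw [one_mul] at hzy
      rw [hzy] at hy
      exact hy hx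
    refine ⟨(z : G), ?_, fun h => hz1 (Subtype.ext h), isPPart_coe hz⟩
    have h1 : IsPGroup p (zpowers z) := IsPGroup.of_card (n := k) (by rw [Nat.card_zpowers, hk])
    have hle : (P : Subgroup G) ≤ N := le_normalizer
    let Q : Sylow p N := P.subtype hle
    have hQn : (Q : Subgroup N).Normal := by
      change ((P : Subgroup G).subgroupOf N).Normal
      rw [hN]; exact normal_in_normalizer
    obtain ⟨R, hR⟩ := h1.exists_le_sylow
    obtain ⟨c, hc⟩ := MulAction.exists_smul_eq N R Q
    have hzQ : c * z * c⁻¹ ∈ (Q : Subgroup N) := by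
      rw [← hc, Sylow.coe_subgroup_smul]
      refine ⟨z, hR (mem_zpowers z), ?_⟩
      simp [MulAut.conj_apply]
    have hzQ' : z ∈ (Q : Subgroup N) := by
      have h3 := hQn.conj_mem _ hzQ c⁻¹
      have h4 : c⁻¹ * (c * z * c⁻¹) * c⁻¹⁻¹ = z := by group
      rwa [h4] at h3
    exact hzQ'
  let f : {c : ConjClasses N // ∃ g, ConjClasses.mk g = c ∧ p ∣ orderOf g} →
      {c : ConjClasses G // ∃ g, ConjClasses.mk g = c ∧ p ∣ orderOf g} := fun c =>
    ⟨ConjClasses.map N.subtype c.1, by
      obtain ⟨g, hg, hp⟩ := c.2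
      refine ⟨(g : G), ?_, ?_⟩
      · rw [← hg]; rfl
      · rwa [Subgroup.orderOf_coe]⟩
  refine Nat.card_congr (Equiv.ofBijective f ⟨?_, ?_⟩)
  · rintro ⟨c, x, rfl, hx⟩ ⟨d, y, rfl, hy⟩ h
    have h1 : ConjClasses.mk (x : G) = ConjClasses.mk (y : G) := congrArg Subtype.val h
    rw [ConjClasses.mk_eq_mk_iff_isConj] at h1
    obtain ⟨g, hg⟩ := isConj_iff.1 h1
    obtain ⟨u, hu, hu1, hup⟩ := hpart x hx
    obtain ⟨u', hu', hu1', hup'⟩ := hpart y hy
    have h2 : IsPPart p (g * (x : G) * g⁻¹) (g * u * g⁻¹) := isPPart_conj hup g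
    rw [hg] at h2
    have h3 := isPPart_unique h2 hup'
    have hgN : g ∈ N := mem_normalizer_of_conj hP hu hu' hu1' h3
    apply Subtype.ext
    change ConjClasses.mk x = ConjClasses.mk y
    rw [ConjClasses.mk_eq_mk_iff_isConj, isConj_iff]
    exact ⟨⟨g, hgN⟩, Subtype.ext hg⟩
  · rintro ⟨c, x, rfl, hx⟩
    obtain ⟨z, y, hzy, hcomm, ⟨k, hk⟩, hy⟩ := exists_isPPart p x
    have hz1 : z ≠ 1 := by
      rintro rfl
      rw [one_mul] at hzy
      rw [hzy] at hy
      exact hy hx
    have hzP : IsPGroup p (zpowers z) := IsPGroup.of_card (n := k) (by rw [Nat.card_zpowers, hk])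
    obtain ⟨Q, hQ⟩ := hzP.exists_le_sylow
    obtain ⟨c, hc⟩ := MulAction.exists_smul_eq G Q P
    have hu : c * z * c⁻¹ ∈ (P : Subgroup G) := by
      rw [← hc, Sylow.coe_subgroup_smul]
      refine ⟨z, hQ (mem_zpowers z), ?_⟩
      simp [MulAut.conj_apply]
    have hu1 : c * z * c⁻¹ ≠ 1 := by
      intro h
      apply hz1
      have : z = c⁻¹ * (c * z * c⁻¹) * c := by group
      rw [this, h]; group
    have hxN : c * x * c⁻¹ ∈ N := by
      have h1 : c * x * c⁻¹ ∈ centralizer ({c * z * c⁻¹} : Set G) := by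
        rw [mem_centralizer_singleton_iff]
        have h2 : x * z = z * x := by
          rw [← hzy]
          have := hcomm.eq
          calc z * y * z = z * (y * z) := by group
            _ = z * (z * y) := by rw [this]
        calc c * x * c⁻¹ * (c * z * c⁻¹) = c * (x * z) * c⁻¹ := by group
          _ = c * (z * x) * c⁻¹ := by rw [h2]
          _ = _ := by group
      rw [Blocks.CyclicOrtho.centralizer_eq P hP hu hu1] at h1
      exact centralizer_le_normalizer _ h1
    have ho : orderOf (⟨c * x * c⁻¹, hxN⟩ : N) = orderOf x := by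
      rw [← Subgroup.orderOf_coe]
      have := orderOf_injective (MulAut.conj c).toMonoidHom (MulAut.conj c).injective x
      simpa using this
    refine ⟨⟨ConjClasses.mk (⟨c * x * c⁻¹, hxN⟩ : N), _, rfl, by rw [ho]; exact hx⟩, ?_⟩
    apply Subtype.ext
    change ConjClasses.mk (c * x * c⁻¹) = ConjClasses.mk x
    rw [ConjClasses.mk_eq_mk_iff_isConj, isConj_comm, isConj_iff]
    exact ⟨c, rfl⟩

theorem main (hdiv : p ∣ Nat.card G) (hsq : ¬ p ^ 2 ∣ Nat.card G) (P : Sylow p G) :
    Nat.card {χ : IrrCharacter G // ¬ p ∣ charDegree (χ : G → ℂ)} =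
      Nat.card (ConjClasses (normalizer ((P : Subgroup G) : Set G))) := by
  classical
  have hp : p.Prime := Fact.out
  have hfac : (Nat.card G).factorization p = 1 := by
    have h0 : Nat.card G ≠ 0 := Nat.card_pos.ne'
    apply le_antisymm
    · by_contra h
      exact hsq ((hp.pow_dvd_iff_le_factorization h0).2 (by omega))
    · exact (hp.dvd_iff_one_le_factorization h0).1 hdiv
  have hP : Nat.card P = p := by
    rw [P.card_eq_multiplicity, hfac, pow_one]
  obtain ⟨H, hH⟩ := exists_compl P
  have h1 : Nat.card {χ : IrrCharacter G // ¬ p ∣ charDegree (χ : G → ℂ)} =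
      Nat.card (nonzeroOn p G) :=
    Nat.card_congr (Equiv.subtypeEquivRight fun χ => (mem_nonzeroOn_iff hP χ).symm)
  rw [h1, card_nonzeroOn hP hH]
  set N := normalizer ((P : Subgroup G) : Set G) with hN
  have hle : (P : Subgroup G) ≤ N := le_normalizer
  let Q : Sylow p N := P.subtype hle
  have hQP : (Q : Subgroup N) = (P : Subgroup G).subgroupOf N := rfl
  have hQn : (Q : Subgroup N).Normal := by
    rw [hQP, hN]; exact normal_in_normalizer
  have hQc : Nat.card Q = p :=
    (Nat.card_congr (subgroupOfEquivOfLe hle).toEquiv).trans hP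
  have hHN : IsCompl' Q (H.subgroupOf N) := by
    refine ⟨?_, ?_, ?_, ?_⟩
    · rw [normalizer_eq_top_iff.2 hQn]
      exact le_top
    · intro x hx hx'
      exact Subtype.ext (hH.disj (x : G) hx hx')
    · intro n _
      obtain ⟨h, hh, y, hy, hhy⟩ := hH.gen (n : G) n.2
      exact ⟨⟨h, hH.le hh⟩, hh, ⟨y, hle hy⟩, hy, Subtype.ext hhy⟩
    · rw [Nat.card_congr (subgroupOfEquivOfLe hH.le).toEquiv]
      exact hH.not_dvd
  have h2 := card_nonzeroOn hQc hHN
  have h3 : Nat.card (nonzeroOn p N) = Nat.card (IrrCharacter N) := by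
    refine Nat.card_congr (Equiv.subtypeUnivEquiv fun χ => ?_)
    rw [mem_nonzeroOn_iff hQc]
    intro hdvd
    obtain ⟨n, ρ, hρ, hχ⟩ := χ.2
    have h4 := Cfsg.Agent.Characters.Ito.finrank_dvd_index ρ (Q : Subgroup N) (by
      intro a ha b hb
      have : IsCyclic (Q : Subgroup N) := isCyclic_of_prime_card hQc
      have := this.isMulCommutative.is_comm.comm (⟨a, ha⟩ : (Q : Subgroup N)) ⟨b, hb⟩
      exact congrArg Subtype.val this)
    have h5 : charDegree (χ : N → ℂ) = Module.finrank ℂ (Fin n → ℂ) := by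
      apply Blocks.Basic.charDegree_of_eq
      rw [← hχ]; exact Representation.char_one ρ
    rw [h5] at hdvd
    exact Q.not_dvd_index (hdvd.trans h4)
  rw [h3] at h2
  rw [← card_irr (G := N), h2, card_singular_eq hP]
  congr 1
  exact Nat.card_congr (H662.trEquiv (subgroupOfEquivOfLe hH.le).symm)

end Cfsg.Agent.H606.McKayOnce
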